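import Mathlib
import Cfsg.Agent.Lib.Chars.SmallDegrees
import Cfsg.Agent.Lib.Chars.Broline
import Cfsg.Agent.Lib.Clifford.Gallagher
import Cfsg.Agent.Lib.Burnside.Paqb

/-!
# Characters of subgroups having the largest degree of the group

If all degrees of `G` are at most `n` and a subgroup `H` has an irreducible character `θ` of degree
`n`, then `θ` extends to `G` and vanishes off the core of `H`.
-/

set_option autoImplicit false

namespace Cfsg.Agent.Lib.MaxDegree

open scoped ComplexConjugate
open Cfsg.Agent.Lib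

universe u

variable {G : Type u} [Group G]

/-- Every character of a subgroup lies under a character of the group. -/
theorem exists_above [Fintype G] (H : Subgroup G) [Fintype H] (θ : IrrCharacter H) :
    ∃ χ : IrrCharacter G, classInner (indFun H (θ : H → ℂ)) (χ : G → ℂ) ≠ 0 := by
  classical
  by_contra! h0
  have := congrFun (Chars.isCharacter_eq_sum_classInner
    (Chars.isCharacter_indFun H (Chars.irr_isCharacter θ))) 1
  simp [Chars.indFun_one_eq, h0, Chars.irr_apply_one_ne_zero θ,
    Subgroup.index_ne_zero_of_finite] at this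

theorem classInner_res_ne [Fintype G] (H : Subgroup G) [Fintype H] (θ : IrrCharacter H)
    (χ : IrrCharacter G) (h : classInner (indFun H (θ : H → ℂ)) (χ : G → ℂ) ≠ 0) :
    classInner (fun x : H => (χ : G → ℂ) x) (θ : H → ℂ) ≠ 0 := by
  rw [Chars.classInner_indFun_left H _ _ (Chars.irr_isClassFunction χ)] at h
  intro h0
  exact h (by rw [← Chars.conj_classInner, h0, map_zero])

/-- A character of a subgroup of the largest degree is the restriction of every character
above it. -/
theorem res_eq [Fintype G] {n : ℕ} (hd : Chars.DegreesLT (n + 1) G) (H : Subgroup G) [Fintype H]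
    (θ : IrrCharacter H) (hθ : (θ : H → ℂ) 1 = n) (χ : IrrCharacter G)
    (h : classInner (indFun H (θ : H → ℂ)) (χ : G → ℂ) ≠ 0) :
    (fun x : H => (χ : G → ℂ) x) = (θ : H → ℂ) ∧ (χ : G → ℂ) 1 = n := by
  obtain ⟨hle, heq⟩ := CoprimeDegree.constituent_degree_le (Chars.irr_isCharacter χ) H θ
    (classInner_res_ne H θ χ h) (Chars.charDegree_spec χ).2 hθ
  have h1 : charDegree (χ : G → ℂ) ≤ n := Nat.lt_succ_iff.mp (hd χ)
  refine ⟨heq (le_antisymm hle h1), ?_⟩
  rw [(Chars.charDegree_spec χ).2, le_antisymm h1 hle]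

theorem exists_extension [Fintype G] {n : ℕ} (hd : Chars.DegreesLT (n + 1) G) (H : Subgroup G)
    [Fintype H] (θ : IrrCharacter H) (hθ : (θ : H → ℂ) 1 = n) :
    ∃ χ : IrrCharacter G, (fun x : H => (χ : G → ℂ) x) = (θ : H → ℂ) ∧ (χ : G → ℂ) 1 = n := by
  obtain ⟨χ, hχ⟩ := exists_above H θ
  exact ⟨χ, res_eq hd H θ hθ χ hχ⟩

/-- A character of a subgroup of the largest degree vanishes off the core. -/
theorem mem_normalCore [Fintype G] {n : ℕ} (hd : Chars.DegreesLT (n + 1) G)
    (H : Subgroup G) [Fintype H] (θ : IrrCharacter H) (hθ : (θ : H → ℂ) 1 = n) (h : H)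
    (h0 : (θ : H → ℂ) h ≠ 0) : (h : G) ∈ H.normalCore := by
  classical
  set c : IrrCharacter G → ℂ := fun χ => classInner (indFun H (θ : H → ℂ)) (χ : G → ℂ) with hc
  have hdec := Chars.isCharacter_eq_sum_classInner
    (Chars.isCharacter_indFun H (Chars.irr_isCharacter θ))
  have hval : ∀ x : H, indFun H (θ : H → ℂ) (x : G) = (∑ χ, c χ) * (θ : H → ℂ) x := by
    intro x
    rw [congrFun hdec (x : G), Finset.sum_apply, Finset.sum_mul]
    refine Finset.sum_congr rfl fun χ _ => ?_
    simp only [Pi.smul_apply, smul_eq_mul]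
    by_cases hz : c χ = 0
    · rw [hc] at hz ⊢
      simp only at hz
      simp only [hz, zero_mul]
    · rw [← congrFun (res_eq hd H θ hθ χ hz).1 x]
  have hsum : ∑ χ, c χ = (H.index : ℂ) := by
    have h1 := hval 1
    rw [OneMemClass.coe_one, Chars.indFun_one_eq] at h1
    exact (mul_right_cancel₀ (Chars.irr_apply_one_ne_zero θ) h1).symm
  obtain ⟨χ₀, hχ₀, -⟩ := exists_extension hd H θ hθ
  have hterm : ∀ x : G, extendByZero H (θ : H → ℂ) (x⁻¹ * (h : G) * x) =
      if x⁻¹ * (h : G) * x ∈ H then (θ : H → ℂ) h else 0 := by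
    intro x
    split_ifs with hx
    · rw [Chars.extendByZero_of_mem _ hx, ← congrFun hχ₀ ⟨_, hx⟩, ← congrFun hχ₀ h]
      have := Chars.irr_isClassFunction χ₀ (h : G) x⁻¹
      simpa using this
    · exact Chars.extendByZero_of_not_mem _ hx
  have h2 := hval h
  rw [hsum, indFun, Finset.sum_congr rfl (fun x _ => hterm x), ← Finset.sum_filter,
    Finset.sum_const, nsmul_eq_mul, ← mul_assoc] at h2
  have h3 := mul_right_cancel₀ h0 h2
  rw [inv_mul_eq_iff_eq_mul₀ (Nat.cast_ne_zero.mpr Nat.card_pos.ne'), ← Nat.cast_mul,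
    H.card_mul_index, Nat.cast_inj, Nat.card_eq_fintype_card] at h3
  have h4 := Finset.eq_univ_of_card _ h3
  intro b
  have := (Finset.mem_filter.mp (h4 ▸ Finset.mem_univ b⁻¹)).2
  simpa using this

theorem sum_sq_norm [Fintype G] (χ : IrrCharacter G) :
    ∑ g : G, ‖(χ : G → ℂ) g‖ ^ 2 = (Nat.card G : ℝ) := by
  have h := Chars.classInner_irr_self χ
  rw [classInner, inv_mul_eq_iff_eq_mul₀ (Nat.cast_ne_zero.mpr Nat.card_pos.ne'), mul_one] at h
  simp only [Complex.mul_conj, Complex.normSq_eq_norm_sq] at h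
  exact_mod_cast h

/-- An irreducible character vanishing off a subgroup `M` bounds the index of `M` by the square of
its degree. -/
theorem card_le_of_support [Fintype G] {n : ℕ} (χ : IrrCharacter G) (hχ : (χ : G → ℂ) 1 = n)
    (M : Subgroup G) (hM : ∀ g : G, (χ : G → ℂ) g ≠ 0 → g ∈ M) : M.index ≤ n ^ 2 := by
  classical
  have h := sum_sq_norm χ
  rw [← Finset.sum_filter_of_ne (p := fun g => g ∈ M) (fun g _ hg => hM g (fun h0 => hg (by
    simp [h0])))] at h
  have h1 : ∑ g ∈ Finset.univ.filter (fun g => g ∈ M), ‖(χ : G → ℂ) g‖ ^ 2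
      ≤ (Finset.univ.filter fun g => g ∈ M).card • ((n : ℝ) ^ 2) := by
    refine Finset.sum_le_card_nsmul _ _ _ fun g _ => ?_
    refine pow_le_pow_left₀ (norm_nonneg _) ?_ 2
    have := Chars.norm_char_le_degree (Chars.irr_isCharacter χ) g
    simpa [hχ] using this
  rw [h, nsmul_eq_mul] at h1
  have hcard : (Finset.univ.filter fun g => g ∈ M).card = Nat.card M := by
    rw [Nat.card_eq_fintype_card, Fintype.card_subtype]
  rw [hcard, ← M.card_mul_index] at h1
  push_cast at h1
  have h2 := le_of_mul_le_mul_left h1 (Nat.cast_pos.mpr Nat.card_pos)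
  exact_mod_cast h2

theorem exists_max_of_not_degreesLT [Finite G] {n : ℕ} (hd : Chars.DegreesLT (n + 1) G)
    (h : ¬ Chars.DegreesLT n G) : ∃ θ : IrrCharacter G, (θ : G → ℂ) 1 = n := by
  simp only [Chars.DegreesLT, not_forall, not_lt] at h
  obtain ⟨θ, hθ⟩ := h
  exact ⟨θ, by rw [(Chars.charDegree_spec θ).2, le_antisymm (Nat.lt_succ_iff.mp (hd θ)) hθ]⟩

/-- A group with all degrees below two is commutative. -/
theorem mul_comm_of_degreesLT_two [Finite G] (hd : Chars.DegreesLT 2 G) (a b : G) :
    a * b = b * a := by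
  refine CoprimeDegree.mul_comm_of_linear (fun χ => ?_) a b
  obtain ⟨h0, h1⟩ := Chars.charDegree_spec χ
  have := hd χ
  rw [h1, show charDegree (χ : G → ℂ) = 1 by omega, Nat.cast_one]

theorem exists_nonlinear [Finite G] (h : ¬ ∀ a b : G, a * b = b * a) :
    ∃ χ : IrrCharacter G, 2 ≤ charDegree (χ : G → ℂ) := by
  by_contra! h2
  exact h (mul_comm_of_degreesLT_two h2)

/-- If `G ⧸ N` is not commutative the degrees of `N` are at most half the largest degree of `G`. -/
theorem two_mul_le [Fintype G] {n : ℕ} (hd : Chars.DegreesLT (n + 1) G) (N : Subgroup G) [N.Normal]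
    [Fintype N] (hQ : ¬ ∀ a b : G ⧸ N, a * b = b * a) (θ : IrrCharacter N) :
    2 * charDegree (θ : N → ℂ) ≤ n := by
  obtain ⟨χ, hχ⟩ := exists_above N θ
  have hres := classInner_res_ne N θ χ hχ
  obtain ⟨hc0, hc⟩ := Chars.charDegree_spec χ
  obtain ⟨hd0, hdθ⟩ := Chars.charDegree_spec θ
  obtain ⟨⟨e, he⟩, -⟩ := S0887.result N _ χ.2 _ θ.2 hres _ _ hc hdθ
  have hle : charDegree (χ : G → ℂ) ≤ n := Nat.lt_succ_iff.mp (hd χ)
  rcases e with - | - | e
  · simp at he; omega
  · obtain ⟨-, heq⟩ := CoprimeDegree.constituent_degree_le (Chars.irr_isCharacter χ) N θ hres hc hdθ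
    have hrn : Clifford.resFun N (χ : G → ℂ) = (θ : N → ℂ) := heq (by simpa using he.symm)
    obtain ⟨β, hβ⟩ := exists_nonlinear hQ
    have hirr := (Clifford.gallagher χ.2 (hrn ▸ θ.2)).1 β
    have h1 : ((χ : G → ℂ) * (Chars.inflate N β : G → ℂ)) 1
        = ((charDegree (χ : G → ℂ) * charDegree (β : G ⧸ N → ℂ) : ℕ) : ℂ) := by
      rw [Pi.mul_apply, hc, Nat.cast_mul, ← (Chars.charDegree_spec β).2]
      rfl
    have h2 := hd ⟨_, hirr⟩
    rw [Codegree.charDegree_eq h1] at h2
    have : charDegree (χ : G → ℂ) = charDegree (θ : N → ℂ) := by simpa using he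
    rw [← this]
    nlinarith
  · rw [he] at hle
    nlinarith

/-- A group with all degrees at most `4` whose derived subgroup is the only minimal normal
subgroup has a commutative derived subgroup. -/
theorem commutator_comm_of_degreesLT_five {Q : Type u} [Group Q] [Finite Q]
    (hd : Chars.DegreesLT 5 Q)
    (hmin : ∀ M : Subgroup Q, M.Normal → M ≠ ⊥ → commutator Q ≤ M) :
    ∀ a ∈ commutator Q, ∀ b ∈ commutator Q, a * b = b * a := by
  classical
  by_contra hne
  push Not at hne
  obtain ⟨a, ha, b, hb, hab⟩ := hne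
  have hprimes : ∀ p : ℕ, p.Prime → 5 ≤ p → ¬ p ∣ Nat.card Q := by
    intro p hp hp5 hdvd
    have := Fact.mk hp
    have hdp : Chars.DegreesLT p Q := fun χ => lt_of_lt_of_le (hd χ) hp5
    let P : Sylow p Q := default
    have hPn := Chars.sylow_normal_of_degreesLT (Nat.card Q) Q rfl hdp P
    have hP1 : (P : Subgroup Q) ≠ ⊥ := P.ne_bot_of_dvd_card hdvd
    have hT := hmin _ hPn hP1
    have h1 := Chars.mul_comm_of_degreesLT_of_isPGroup (Chars.degreesLT_subgroup hdp (P : Subgroup Q))
      P.isPGroup' ⟨a, hT ha⟩ ⟨b, hT hb⟩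
    exact hab (congrArg Subtype.val h1)
  have hcard : Nat.card Q = 2 ^ (Nat.card Q).factorization 2 * 3 ^ (Nat.card Q).factorization 3 := by
    refine Nat.eq_of_factorization_eq Nat.card_pos.ne' (by positivity) fun p => ?_
    rw [Nat.factorization_mul (by positivity) (by positivity), Nat.prime_two.factorization_pow,
      Nat.prime_three.factorization_pow, Finsupp.add_apply, Finsupp.single_apply,
      Finsupp.single_apply]
    by_cases hp : p.Prime
    · rcases lt_or_ge p 5 with h5 | h5
      · have := hp.two_le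
        interval_cases p
        · simp
        · simp
        · norm_num at hp
      · rw [if_neg (by omega), if_neg (by omega)]
        simpa using Nat.factorization_eq_zero_of_not_dvd (hprimes p hp h5)
    · rw [Nat.factorization_eq_zero_of_not_prime _ hp,
        if_neg (fun h : 2 = p => hp (h ▸ Nat.prime_two)),
        if_neg (fun h : 3 = p => hp (h ▸ Nat.prime_three)), add_zero]
  have hsolv := Burnside.isSolvable_of_card_eq_prime_pow_mul Nat.prime_two Nat.prime_three hcard
  have hTne : commutator Q ≠ ⊥ := fun h => hab (by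
    rw [h, Subgroup.mem_bot] at ha hb
    rw [ha, hb])
  have hlt := Group.IsSolvable.commutator_lt_of_ne_bot hTne
  by_cases h0 : ⁅commutator Q, commutator Q⁆ = ⊥
  · have := Subgroup.commutator_mem_commutator ha hb
    rw [h0, Subgroup.mem_bot, commutatorElement_def, mul_inv_eq_one, mul_inv_eq_iff_eq_mul] at this
    exact hab this
  · exact not_lt_of_ge (hmin _ inferInstance h0) hlt

end Cfsg.Agent.Lib.MaxDegree
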