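import Mathlib
import Cfsg.Agent.Lib.MaxDegree.Basic
import Cfsg.Agent.Lib.Chars.DegreesOneP

/-!
# An abelian subgroup of index bounded in terms of the largest character degree

For a minimal non-commutative quotient `G ⧸ N` one of the following subgroups of `G` has a smaller
largest degree and small index: the preimage of the centre, of the derived subgroup or of the
centraliser of an element with a small class, or `N` itself.
-/

set_option autoImplicit false

namespace Cfsg.Agent.Lib.MaxDegree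

open scoped ComplexConjugate
open Cfsg.Agent.Lib

universe u

variable {Q : Type u} [Group Q]

theorem charDegree_eq_one_of_commutator [Finite Q] (β : IrrCharacter Q)
    (h : ∀ x ∈ commutator Q, (β : Q → ℂ) x = (β : Q → ℂ) 1) : charDegree (β : Q → ℂ) = 1 := by
  obtain ⟨ψ, hψ⟩ := Chars.exists_irr_quotient (commutator Q) β h
  have hcomm : IsMulCommutative (Q ⧸ commutator Q) := ⟨⟨fun a b => by
    induction a using QuotientGroup.induction_on with | _ a => ?_
    induction b using QuotientGroup.induction_on with | _ b => ?_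
    rw [← QuotientGroup.mk_mul, ← QuotientGroup.mk_mul, QuotientGroup.eq]
    have := Subgroup.commutator_mem_commutator (Subgroup.mem_top b⁻¹) (Subgroup.mem_top a⁻¹)
    simpa [commutator_def, commutatorElement_def, mul_assoc] using this⟩⟩
  refine Codegree.charDegree_eq ?_
  rw [← hψ 1, Nat.cast_one]
  exact Chars.irr_apply_one_of_comm ψ

theorem injective_of_min [Finite Q]
    (hmin : ∀ M : Subgroup Q, M.Normal → M ≠ ⊥ → commutator Q ≤ M) {β : IrrCharacter Q}
    (hβ : 2 ≤ charDegree (β : Q → ℂ)) {m : ℕ} {ρ : Representation ℂ Q (Fin m → ℂ)}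
    (hρ : ρ.character = (β : Q → ℂ)) {x : Q} (hx : ρ x = 1) : x = 1 := by
  by_contra hx1
  have hne : MonoidHom.ker ρ ≠ ⊥ := fun h => hx1 (by
    have : x ∈ MonoidHom.ker ρ := MonoidHom.mem_ker.mpr hx
    rwa [h, Subgroup.mem_bot] at this)
  have hT := hmin _ inferInstance hne
  have := charDegree_eq_one_of_commutator β fun y hy => by
    rw [← hρ, ← Chars.rep_eq_one_iff]
    exact MonoidHom.mem_ker.mp (hT hy)
  omega

/-- The class-two case: a faithful character is `f` in absolute value on the centre, vanishes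
elsewhere, and `f` squared is the index of the centre. -/
theorem central_case [Fintype Q] {n : ℕ} (hd : Chars.DegreesLT (n + 1) Q)
    (hQ : ¬ ∀ a b : Q, a * b = b * a)
    (hmin : ∀ M : Subgroup Q, M.Normal → M ≠ ⊥ → commutator Q ≤ M)
    (hcen : commutator Q ≤ Subgroup.center Q) :
    ∃ β : IrrCharacter Q, 2 ≤ charDegree (β : Q → ℂ) ∧ charDegree (β : Q → ℂ) ≤ n ∧
      (∀ z ∈ Subgroup.center Q, ‖(β : Q → ℂ) z‖ = (charDegree (β : Q → ℂ) : ℝ)) ∧
      (∀ x ∉ Subgroup.center Q, (β : Q → ℂ) x = 0) ∧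
      (Subgroup.center Q).index = charDegree (β : Q → ℂ) ^ 2 := by
  classical
  obtain ⟨β, hβ⟩ := exists_nonlinear hQ
  obtain ⟨m, ρ, hirr, hρ⟩ := β.2
  have hm : (β : Q → ℂ) 1 = m := by
    rw [← hρ, ρ.char_one, Module.finrank_fin_fun]
  have hdeg : charDegree (β : Q → ℂ) = m := Codegree.charDegree_eq hm
  have hsc : ∀ z ∈ Subgroup.center Q, ∃ c : ℂ, ρ z = c • 1 := fun z hz =>
    Clifford.schur_scalar ρ (ρ z) fun g => by
      rw [← map_mul, ← map_mul, Subgroup.mem_center_iff.mp hz g]
  have hnorm : ∀ z ∈ Subgroup.center Q, ‖(β : Q → ℂ) z‖ = (charDegree (β : Q → ℂ) : ℝ) := by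
    intro z hz
    obtain ⟨c, hc⟩ := hsc z hz
    have := (Chars.norm_char_eq_iff ρ z).mpr ⟨c, by rw [hc, Module.End.one_eq_id]⟩
    rwa [hρ, Module.finrank_fin_fun, ← hdeg] at this
  have hvan : ∀ x ∉ Subgroup.center Q, (β : Q → ℂ) x = 0 := by
    intro x hx
    rw [Subgroup.mem_center_iff] at hx
    push Not at hx
    obtain ⟨g, hg⟩ := hx
    set c := g * x * g⁻¹ * x⁻¹ with hc
    have hcT : c ∈ commutator Q := by
      rw [commutator_def]
      exact Subgroup.commutator_mem_commutator (Subgroup.mem_top g) (Subgroup.mem_top x)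
    obtain ⟨ε, hε⟩ := hsc c (hcen hcT)
    have h1 : (β : Q → ℂ) x = ε * (β : Q → ℂ) x := by
      conv_lhs => rw [← Chars.irr_isClassFunction β x g, show g * x * g⁻¹ = c * x by simp [hc]]
      rw [← hρ]
      show LinearMap.trace ℂ _ (ρ (c * x)) = ε * LinearMap.trace ℂ _ (ρ x)
      rw [map_mul, hε, smul_mul_assoc, one_mul, map_smul, smul_eq_mul]
    have hε1 : ε ≠ 1 := fun h => hg (by
      rw [h, one_smul] at hε
      have := injective_of_min hmin hβ hρ hε
      rwa [hc, mul_inv_eq_one, mul_inv_eq_iff_eq_mul] at this)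
    by_contra hne
    exact hε1 (mul_right_cancel₀ hne (by rw [one_mul]; exact h1.symm))
  refine ⟨β, hβ, Nat.lt_succ_iff.mp (hd β), hnorm, hvan, ?_⟩
  have h := sum_sq_norm β
  rw [← Finset.sum_filter_of_ne (p := fun g => g ∈ Subgroup.center Q) (fun g _ hg => by
    by_contra hgz
    exact hg (by simp [hvan g hgz])), Finset.sum_congr rfl (fun g hg => by
      rw [hnorm g (Finset.mem_filter.mp hg).2]), Finset.sum_const, nsmul_eq_mul,
    show (Finset.univ.filter fun g => g ∈ Subgroup.center Q).card = Nat.card (Subgroup.center Q) by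
      rw [Nat.card_eq_fintype_card, Fintype.card_subtype],
    ← (Subgroup.center Q).card_mul_index, Nat.cast_mul] at h
  have h2 := mul_left_cancel₀ (Nat.cast_ne_zero.mpr Nat.card_pos.ne') h
  exact_mod_cast h2.symm

/-- Conjugates of an element by the whole group differ from it by commutators. -/
theorem conj_mul_inv_mem (g h : Q) : h * g * h⁻¹ * g⁻¹ ∈ commutator Q := by
  rw [commutator_def]
  exact Subgroup.commutator_mem_commutator (Subgroup.mem_top h) (Subgroup.mem_top g)

/-- Commutation with an element without fixed points is injective on a subgroup. -/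
theorem commMap_injective {T : Subgroup Q} {x : Q}
    (hfix : ∀ t ∈ T, x * t = t * x → t = 1) {a b : Q} (ha : a ∈ T) (hb : b ∈ T)
    (hab : x * a * x⁻¹ * a⁻¹ = x * b * x⁻¹ * b⁻¹) : a = b := by
  have h3 : x * a * x⁻¹ = (x * b * x⁻¹ * b⁻¹) * a := by rw [← hab]; group
  have h2 : x * (b⁻¹ * a) * x⁻¹ = b⁻¹ * a := by
    calc x * (b⁻¹ * a) * x⁻¹ = (x * b * x⁻¹)⁻¹ * (x * a * x⁻¹) := by group
      _ = b⁻¹ * a := by rw [h3]; group
  exact (inv_mul_eq_one.mp (hfix _ (mul_mem (inv_mem hb) ha) (mul_inv_eq_iff_eq_mul.mp h2))).symm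

/-- A metabelian group with trivial centre and unique minimal normal derived subgroup `T`: `T` is
self-centralising and every element outside acts fixed-point-freely. -/
theorem frobenius_facts [Finite Q] (hmin : ∀ M : Subgroup Q, M.Normal → M ≠ ⊥ → commutator Q ≤ M)
    (hZ : Subgroup.center Q = ⊥) (hT : ∀ a ∈ commutator Q, ∀ b ∈ commutator Q, a * b = b * a)
    (hT1 : commutator Q ≠ ⊥) :
    ∀ g ∉ commutator Q, ∀ t ∈ commutator Q, g * t = t * g → t = 1 := by
  set T := commutator Q
  have step : ∀ g, (∃ t ∈ T, g * t ≠ t * g) → ∀ t ∈ T, g * t = t * g → t = 1 := by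
    intro g hg t ht hgt
    by_contra ht1
    let U : Subgroup Q := T ⊓ Subgroup.centralizer ({g} : Set Q)
    have hU : U.Normal := by
      refine ⟨fun s hs h => ?_⟩
      obtain ⟨hsT, hsg⟩ := Subgroup.mem_inf.mp hs
      refine Subgroup.mem_inf.mpr ⟨Subgroup.Normal.conj_mem inferInstance s hsT h,
        Subgroup.mem_centralizer_iff.mpr ?_⟩
      intro y hy
      rw [Set.mem_singleton_iff] at hy
      subst y
      have h1 : g * s = s * g := Subgroup.mem_centralizer_iff.mp hsg g rfl
      have h2 := hT _ (conj_mul_inv_mem g h⁻¹) s hsT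
      have h3 : (h⁻¹ * g * h) * s = s * (h⁻¹ * g * h) := by
        calc (h⁻¹ * g * h) * s = h⁻¹ * g * h⁻¹⁻¹ * g⁻¹ * (g * s) := by group
          _ = h⁻¹ * g * h⁻¹⁻¹ * g⁻¹ * s * g := by rw [h1, ← mul_assoc]
          _ = s * (h⁻¹ * g * h⁻¹⁻¹ * g⁻¹) * g := by rw [h2]
          _ = _ := by group
      calc g * (h * s * h⁻¹) = h * ((h⁻¹ * g * h) * s) * h⁻¹ := by group
        _ = h * (s * (h⁻¹ * g * h)) * h⁻¹ := by rw [h3]
        _ = h * s * h⁻¹ * g := by group
    have hU1 : U ≠ ⊥ := fun h => ht1 (by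
      have : t ∈ U := Subgroup.mem_inf.mpr ⟨ht, Subgroup.mem_centralizer_iff.mpr (by
        intro y hy; rw [Set.mem_singleton_iff] at hy; subst y; exact hgt)⟩
      rwa [h, Subgroup.mem_bot] at this)
    obtain ⟨s, hs, hne⟩ := hg
    exact hne (Subgroup.mem_centralizer_iff.mp (hmin U hU hU1 hs).2 g rfl)
  obtain ⟨g₀, t₀, ht₀, hg₀⟩ : ∃ g, ∃ t ∈ T, g * t ≠ t * g := by
    by_contra! h
    apply hT1
    rw [← le_bot_iff, ← hZ]
    exact fun t ht => Subgroup.mem_center_iff.mpr fun g => h g t ht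
  have hC : ∀ v : Q, (∀ t ∈ T, v * t = t * v) → v ∈ T := by
    intro v hv
    let φ : T → T := fun t => ⟨g₀ * t * g₀⁻¹ * (t : Q)⁻¹,
      conj_mul_inv_mem (t : Q) g₀⟩
    have hφ : Function.Injective φ := fun a b hab => Subtype.ext
      (commMap_injective (step g₀ ⟨t₀, ht₀, hg₀⟩) a.2 b.2 (congrArg Subtype.val hab))
    obtain ⟨⟨t, ht⟩, htv⟩ := (Finite.injective_iff_surjective.mp hφ) ⟨_, conj_mul_inv_mem v g₀⟩
    have htv' : g₀ * t * g₀⁻¹ * t⁻¹ = g₀ * v * g₀⁻¹ * v⁻¹ := congrArg Subtype.val htv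
    set d := t⁻¹ * v with hd
    have hdT : ∀ s ∈ T, d * s = s * d := fun s hs => by
      rw [hd, mul_assoc, hv s hs, ← mul_assoc, hT _ (inv_mem ht) s hs, mul_assoc]
    have hdg : g₀ * d = d * g₀ := by
      have e1 : g₀ * v * g₀⁻¹ = (g₀ * t * g₀⁻¹ * t⁻¹) * v := by rw [htv']; group
      apply mul_inv_eq_iff_eq_mul.mp
      calc g₀ * d * g₀⁻¹ = (g₀ * t * g₀⁻¹)⁻¹ * (g₀ * v * g₀⁻¹) := by rw [hd]; group
        _ = d := by rw [e1, hd]; group
    have hdZ : d ∈ Subgroup.center Q := Subgroup.mem_center_iff.mpr fun h => by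
      set e := h * d * h⁻¹ * d⁻¹
      have he : e ∈ T := conj_mul_inv_mem d h
      have key : ∀ y : Q, y * d = d * y → (∀ s ∈ T, d * s = s * d) →
          (h * y * h⁻¹) * (e * d) = (e * d) * (h * y * h⁻¹) := fun y hy _ => by
        calc (h * y * h⁻¹) * (e * d) = h * (y * d) * h⁻¹ := by simp only [e]; group
          _ = h * (d * y) * h⁻¹ := by rw [hy]
          _ = _ := by simp only [e]; group
      have hk := key g₀ hdg hdT
      set s := h * g₀ * h⁻¹ * g₀⁻¹
      have hs : s ∈ T := conj_mul_inv_mem g₀ h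
      rw [show h * g₀ * h⁻¹ = s * g₀ by simp only [s]; group] at hk
      have hse : (e * d) * s = s * (e * d) := by
        rw [mul_assoc, hdT s hs, ← mul_assoc, hT e he s hs, mul_assoc]
      rw [← mul_assoc (e * d), hse, mul_assoc s, mul_assoc s] at hk
      have hk' := mul_left_cancel hk
      have : g₀ * e = e * g₀ := by
        apply mul_right_cancel (b := d)
        calc g₀ * e * d = g₀ * (e * d) := mul_assoc _ _ _
          _ = e * d * g₀ := hk'
          _ = e * g₀ * d := by rw [mul_assoc, ← hdg, ← mul_assoc]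
      have he1 := step g₀ ⟨t₀, ht₀, hg₀⟩ e he this
      exact mul_inv_eq_iff_eq_mul.mp (mul_inv_eq_one.mp he1)
    rw [hZ, Subgroup.mem_bot, hd, inv_mul_eq_one] at hdZ
    exact hdZ ▸ ht
  intro g hg
  refine step g ?_
  by_contra! h
  exact hg (hC g h)

theorem index_le_of_frobenius [Fintype Q] {n : ℕ} (hd : Chars.DegreesLT (n + 1) Q)
    (hT : ∀ a ∈ commutator Q, ∀ b ∈ commutator Q, a * b = b * a) (hT1 : commutator Q ≠ ⊥)
    (hfree : ∀ g ∉ commutator Q, ∀ t ∈ commutator Q, g * t = t * g → t = 1) :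
    (commutator Q).index ≤ n := by
  classical
  set T := commutator Q with hTdef
  obtain ⟨c, hc⟩ : ∃ c : T, c ≠ 1 := by
    obtain ⟨c, hc, hc1⟩ := T.ne_bot_iff_exists_ne_one.mp hT1 |> fun ⟨⟨c, hc⟩, h⟩ =>
      (⟨c, hc, fun h1 => h (Subtype.ext h1)⟩ : ∃ c, c ∈ T ∧ c ≠ 1)
    exact ⟨⟨c, hc⟩, fun h => hc1 (congrArg Subtype.val h)⟩
  obtain ⟨l, -, hl⟩ := Chars.exists_hom_separating T hT ⊥ c (by simpa using hc)
  set lam : IrrCharacter T := Chars.linIrr l
  have hlam : ∀ t, (lam : T → ℂ) t = (l t : ℂ) := fun t => rfl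
  have hstab : ∀ x : Q, Clifford.conjFun x (lam : T → ℂ) = (lam : T → ℂ) ↔ x ∈ T := by
    intro x
    constructor
    · intro hx
      by_contra hxT
      let φ : T → T := fun t => ⟨x * t * x⁻¹ * (t : Q)⁻¹, conj_mul_inv_mem (t : Q) x⟩
      have hφ : Function.Injective φ := fun a b hab => Subtype.ext
        (commMap_injective (hfree x hxT) a.2 b.2 (congrArg Subtype.val hab))
      apply hl
      obtain ⟨t, ht⟩ := (Finite.injective_iff_surjective.mp hφ) c
      rw [← ht]
      have h1 := congrFun hx t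
      simp only [Clifford.conjFun, hlam] at h1
      have h2 : φ t = ⟨x * t * x⁻¹, Subgroup.Normal.conj_mem inferInstance _ t.2 x⟩ * t⁻¹ :=
        Subtype.ext rfl
      rw [h2, map_mul, map_inv, Units.ext h1, mul_inv_cancel]
    · intro hx
      funext t
      simp only [Clifford.conjFun, hlam]
      rw [show (⟨x * (t : Q) * x⁻¹, Subgroup.Normal.conj_mem inferInstance (t : Q) t.2 x⟩ : T) = t from
        Subtype.ext (by show x * (t : Q) * x⁻¹ = t; rw [hT x hx t t.2, mul_inv_cancel_right])]
  have hnorm : classInner (indFun T (lam : T → ℂ)) (indFun T (lam : T → ℂ)) = 1 := by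
    rw [Chars.classInner_indFun_left T _ _ (Chars.isClassFunction_indFun T _)]
    show classInner (lam : T → ℂ) (Clifford.resFun T (indFun T (lam : T → ℂ))) = 1
    rw [Clifford.resFun_indFun, Chars.classInner_smul_right, Chars.classInner_sum_right,
      Finset.sum_congr rfl (g := fun x => if x ∈ T then (1 : ℂ) else 0) (fun x _ => ?_),
      Finset.sum_boole, map_inv₀, Complex.conj_natCast,
      show (Finset.univ.filter fun g => g ∈ T).card = Nat.card T by
        rw [Nat.card_eq_fintype_card, Fintype.card_subtype],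
      inv_mul_cancel₀ (Nat.cast_ne_zero.mpr Nat.card_pos.ne')]
    split_ifs with hx
    · rw [(hstab x).mpr hx]; exact Chars.classInner_irr_self lam
    · exact Chars.classInner_irr_of_ne (χ := lam)
        (ψ := ⟨_, Clifford.isIrrCharacter_conjFun x lam.2⟩)
        (fun h => hx ((hstab x).mp (congrArg Subtype.val h).symm))
  have hirr := (Chars.isIrrCharacter_iff_classInner_eq_one
    (Chars.isCharacter_indFun T (Chars.irr_isCharacter lam))).mpr hnorm
  have h1 : indFun T (lam : T → ℂ) 1 = ((T.index : ℕ) : ℂ) := by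
    rw [Chars.indFun_one_eq, hlam, map_one, Units.val_one, mul_one]
  have h2 := hd ⟨_, hirr⟩
  rw [Codegree.charDegree_eq h1] at h2
  omega

theorem odd_card_of_index_two [Finite Q]
    (hT : ∀ a ∈ commutator Q, ∀ b ∈ commutator Q, a * b = b * a)
    (hfree : ∀ g ∉ commutator Q, ∀ t ∈ commutator Q, g * t = t * g → t = 1)
    (h2 : (commutator Q).index = 2) : Odd (Nat.card (commutator Q)) := by
  classical
  have := Fintype.ofFinite (commutator Q)
  obtain ⟨g, hg⟩ : ∃ g, g ∉ commutator Q := by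
    by_contra! h
    rw [(Subgroup.eq_top_iff' _).mpr h, Subgroup.index_top] at h2
    omega
  have hg2 := Subgroup.mul_self_mem_of_index_two h2 g
  have hinv : Function.Involutive (MulAut.conjNormal g : MulAut (commutator Q)) := fun t => by
    apply Subtype.ext
    rw [MulAut.conjNormal_apply, MulAut.conjNormal_apply]
    calc g * (g * t * g⁻¹) * g⁻¹ = g * g * t * (g * g)⁻¹ := by group
      _ = t := by rw [hT _ hg2 _ t.2, mul_inv_cancel_right]
  set σ : Equiv.Perm (commutator Q) := hinv.toPerm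
  have hσ : σ ^ 2 ^ 1 = 1 := Equiv.ext fun t => hinv t
  have := Fact.mk Nat.prime_two
  have hmod := Equiv.Perm.card_compl_support_modEq hσ
  have hsupp : σ.supportᶜ = {1} := by
    ext t
    simp only [Finset.mem_compl, Equiv.Perm.mem_support, not_not, Finset.mem_singleton]
    refine ⟨fun h => Subtype.ext (hfree g hg t t.2 ?_), fun h => ?_⟩
    · have := congrArg Subtype.val h
      rw [show σ t = MulAut.conjNormal g t from rfl, MulAut.conjNormal_apply] at this
      exact mul_inv_eq_iff_eq_mul.mp this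
    · subst h; exact map_one (MulAut.conjNormal g : MulAut (commutator Q))
  rw [hsupp, Finset.card_singleton, ← Nat.card_eq_fintype_card] at hmod
  exact Nat.odd_iff.mpr hmod.symm

theorem exists_small_class [Fintype Q] [Nontrivial Q] {n : ℕ} (hd : Chars.DegreesLT (n + 1) Q) :
    ∃ x : Q, x ≠ 1 ∧ (Subgroup.centralizer ({x} : Set Q)).index ≤ n ^ 2 := by
  classical
  by_contra! h
  have : Fintype (ConjClasses Q) := Fintype.ofFinite _
  have hcl : ∀ c : ConjClasses Q, c ≠ ConjClasses.mk 1 → n ^ 2 + 1 ≤ Nat.card c.carrier := by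
    intro c hc
    obtain ⟨x, rfl⟩ := ConjClasses.exists_rep c
    have hx : x ≠ 1 := fun h => hc (h ▸ rfl)
    have h1 := Chars.card_conjClass_eq_index x
    have h2 : Nat.card (ConjClasses.mk x).carrier = Nat.card {y : Q // IsConj x y} :=
      Nat.card_congr (Equiv.subtypeEquivRight fun y => by
        rw [ConjClasses.mem_carrier_iff_mk_eq, ConjClasses.mk_eq_mk_iff_isConj]
        exact ⟨IsConj.symm, IsConj.symm⟩)
    have := h x hx
    omega
  have hsum : ∑ c : ConjClasses Q, Nat.card c.carrier = Nat.card Q := by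
    rw [Nat.card_eq_fintype_card, ← sum_conjClasses_card_eq_card Q]
    exact Finset.sum_congr rfl fun c _ => by rw [Nat.card_eq_card_toFinset]
  have hlow : 1 + (Fintype.card (ConjClasses Q) - 1) * (n ^ 2 + 1) ≤ Nat.card Q := by
    rw [← hsum, ← Finset.add_sum_erase _ _ (Finset.mem_univ (ConjClasses.mk (1 : Q)))]
    refine add_le_add ?_ ?_
    · have : Nonempty (ConjClasses.mk (1 : Q)).carrier := ⟨⟨1, ConjClasses.mem_carrier_mk⟩⟩
      exact Nat.card_pos
    · refine le_trans (le_of_eq ?_) (Finset.card_nsmul_le_sum _ _ _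
        fun c hc => hcl c (Finset.ne_of_mem_erase hc))
      rw [Finset.card_erase_of_mem (Finset.mem_univ _), Finset.card_univ, smul_eq_mul]
  have hup : Nat.card Q ≤ 1 + (Fintype.card (ConjClasses Q) - 1) * n ^ 2 := by
    have h1 : Nat.card Q = ∑ χ : IrrCharacter Q, charDegree (χ : Q → ℂ) ^ 2 := by
      have := Chars.sum_degree_sq (G := Q)
      simp only [(Chars.charDegree_spec _).2] at this
      exact_mod_cast this.symm
    have hk : Fintype.card (IrrCharacter Q) = Fintype.card (ConjClasses Q) := by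
      simpa [Nat.card_eq_fintype_card] using Chars.card_irrCharacter (G := Q)
    rw [h1, ← Finset.add_sum_erase _ _ (Finset.mem_univ (Chars.trivialIrr Q))]
    refine add_le_add (le_of_eq ?_) ((Finset.sum_le_card_nsmul _ _ _ fun χ _ =>
      Nat.pow_le_pow_left (Nat.lt_succ_iff.mp (hd χ)) 2).trans (le_of_eq ?_))
    · rw [Codegree.charDegree_eq (d := 1) (by simp [Chars.trivialIrr]), one_pow]
    · rw [Finset.card_erase_of_mem (Finset.mem_univ _), Finset.card_univ, smul_eq_mul, hk]
  have hk0 : Fintype.card (ConjClasses Q) - 1 = 0 := by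
    by_contra hne
    have := Nat.one_le_iff_ne_zero.mpr hne
    rw [Nat.mul_add, mul_one] at hlow
    omega
  rw [hk0, zero_mul] at hup
  exact absurd hup (not_le.mpr Finite.one_lt_card)

end Cfsg.Agent.Lib.MaxDegree
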