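import Mathlib
import Cfsg.Agent.Lib.MaxDegree.Reduce

/-!
# The abelian subgroup of bounded index
-/

set_option autoImplicit false

namespace Cfsg.Agent.Lib.MaxDegree

open scoped ComplexConjugate Nat
open Cfsg.Agent.Lib

universe u

theorem budget_pred {n i : ℕ} (hn : 1 ≤ n) (hi : i ≤ n ^ 2) : i * ((n - 1)!) ^ 2 ≤ (n !) ^ 2 := by
  obtain ⟨m, rfl⟩ : ∃ m, n = m + 1 := ⟨n - 1, by omega⟩
  rw [Nat.add_sub_cancel, Nat.factorial_succ, mul_pow]
  exact Nat.mul_le_mul_right _ hi

theorem budget_three {n i : ℕ} (hn : 3 ≤ n) (hi : i ≤ n ^ 3) :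
    i * ((n / 2)!) ^ 2 ≤ (n !) ^ 2 := by
  refine (Nat.mul_le_mul_right _ hi).trans ?_
  rcases lt_or_ge n 5 with h5 | h5
  · interval_cases n <;> decide
  obtain ⟨m, rfl⟩ : ∃ m, n = m + 3 := ⟨n - 3, by omega⟩
  have h1 : ((m + 3) / 2)! ≤ m ! := Nat.factorial_le (by omega)
  have h2 : (m + 3) ^ 2 * ((m + 3) / 2)! ≤ (m + 3)! := by
    rw [Nat.factorial_succ, Nat.factorial_succ, Nat.factorial_succ]
    refine (Nat.mul_le_mul_left _ h1).trans ?_
    have : m + 3 ≤ (m + 2) * (m + 1) := by nlinarith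
    calc (m + 3) ^ 2 * m ! ≤ (m + 3) * ((m + 2) * (m + 1)) * m ! := by
          rw [sq]; exact Nat.mul_le_mul_right _ (Nat.mul_le_mul_left _ this)
      _ = _ := by ring
  calc (m + 3) ^ 3 * ((m + 3) / 2)! ^ 2 ≤ ((m + 3) ^ 2) ^ 2 * ((m + 3) / 2)! ^ 2 :=
        Nat.mul_le_mul_right _ (by rw [← pow_mul]; exact Nat.pow_le_pow_right (by omega) (by omega))
    _ = ((m + 3) ^ 2 * ((m + 3) / 2)!) ^ 2 := by ring
    _ ≤ _ := Nat.pow_le_pow_left h2 2

theorem budget_four {n i : ℕ} (hn : 5 ≤ n) (hi : i ≤ n ^ 4) :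
    i * ((n / 2)!) ^ 2 ≤ (n !) ^ 2 := by
  refine (Nat.mul_le_mul_right _ hi).trans ?_
  obtain ⟨m, rfl⟩ : ∃ m, n = m + 3 := ⟨n - 3, by omega⟩
  have h1 : ((m + 3) / 2)! ≤ m ! := Nat.factorial_le (by omega)
  have h2 : (m + 3) ^ 2 * ((m + 3) / 2)! ≤ (m + 3)! := by
    rw [Nat.factorial_succ, Nat.factorial_succ, Nat.factorial_succ]
    refine (Nat.mul_le_mul_left _ h1).trans ?_
    have : m + 3 ≤ (m + 2) * (m + 1) := by nlinarith
    calc (m + 3) ^ 2 * m ! ≤ (m + 3) * ((m + 2) * (m + 1)) * m ! := by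
          rw [sq]; exact Nat.mul_le_mul_right _ (Nat.mul_le_mul_left _ this)
      _ = _ := by ring
  calc (m + 3) ^ 4 * ((m + 3) / 2)! ^ 2 = ((m + 3) ^ 2 * ((m + 3) / 2)!) ^ 2 := by ring
    _ ≤ _ := Nat.pow_le_pow_left h2 2

/-- A subgroup with smaller largest degree and small index. -/
def HasReduction (n : ℕ) (G : Type u) [Group G] : Prop :=
  ∃ (H : Subgroup G) (m : ℕ), m < n ∧ Chars.DegreesLT (m + 1) H ∧ H.index * (m !) ^ 2 ≤ (n !) ^ 2

variable {G : Type u} [Group G]

theorem hasReduction_of_lt [Finite G] {n : ℕ} (hn : 1 ≤ n) (H : Subgroup G)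
    (h : Chars.DegreesLT n H) (hi : H.index ≤ n ^ 2) : HasReduction n G :=
  ⟨H, n - 1, by omega, by rwa [Nat.sub_add_cancel hn], budget_pred hn hi⟩

/-- When no reduction at `H` is possible, `H` has a character of degree `n`. -/
theorem exists_top_char [Finite G] {n : ℕ} (hn : 1 ≤ n) (hd : Chars.DegreesLT (n + 1) G)
    (hno : ¬ HasReduction n G) (H : Subgroup G) (hi : H.index ≤ n ^ 2) :
    ∃ θ : IrrCharacter H, (θ : H → ℂ) 1 = n :=
  exists_max_of_not_degreesLT (Chars.degreesLT_subgroup hd H)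
    fun h => hno (hasReduction_of_lt hn H h hi)

theorem hasReduction [Fintype G] {n : ℕ} (hn : 2 ≤ n) (hd : Chars.DegreesLT (n + 1) G)
    (hG : ¬ ∀ a b : G, a * b = b * a) : HasReduction n G := by
  classical
  by_contra hno
  -- a maximal normal subgroup with non-commutative quotient
  let S : Set (Subgroup G) := {N | N.Normal ∧ ∃ a b : G, a * b * a⁻¹ * b⁻¹ ∉ N}
  have hS : S.Nonempty := by
    refine ⟨⊥, inferInstance, ?_⟩
    by_contra! h
    exact hG fun a b => by
      have := h a b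
      rwa [Subgroup.mem_bot, mul_inv_eq_one, mul_inv_eq_iff_eq_mul] at this
  obtain ⟨N, ⟨hNn, a₀, b₀, hab⟩, hNmax⟩ := S.toFinite.exists_maximal hS
  have hQ : ¬ ∀ a b : G ⧸ N, a * b = b * a := fun h => hab (by
    rw [← QuotientGroup.eq_one_iff]
    rw [QuotientGroup.mk_mul, QuotientGroup.mk_mul, QuotientGroup.mk_mul, QuotientGroup.mk_inv,
      QuotientGroup.mk_inv, h (a₀ : G ⧸ N) b₀]
    group)
  have hmin : ∀ M : Subgroup (G ⧸ N), M.Normal → M ≠ ⊥ → commutator (G ⧸ N) ≤ M := by
    intro M hM hM1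
    rw [commutator_def, Subgroup.commutator_le]
    intro a _ b _
    induction a using QuotientGroup.induction_on with | _ a => ?_
    induction b using QuotientGroup.induction_on with | _ b => ?_
    by_contra hnot
    have hle : N ≤ M.comap (QuotientGroup.mk' N) := fun x hx => by
      show (x : G ⧸ N) ∈ M
      rw [(QuotientGroup.eq_one_iff x).mpr hx]
      exact one_mem M
    have hge := hNmax (⟨hM.comap _, a, b, by simpa [commutatorElement_def] using hnot⟩ :
      M.comap (QuotientGroup.mk' N) ∈ S) hle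
    apply hM1
    rw [Subgroup.eq_bot_iff_forall]
    intro x hx
    induction x using QuotientGroup.induction_on with | _ x => ?_
    exact (QuotientGroup.eq_one_iff x).mpr (hge hx)
  have : Fintype (G ⧸ N) := Fintype.ofFinite _
  have hdQ : Chars.DegreesLT (n + 1) (G ⧸ N) := Chars.degreesLT_quotient hd N
  have hmk := QuotientGroup.mk'_surjective N
  have hidx : ∀ M : Subgroup (G ⧸ N), (M.comap (QuotientGroup.mk' N)).index = M.index := fun M =>
    Subgroup.index_comap_of_surjective M hmk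
  have hTne : commutator (G ⧸ N) ≠ ⊥ := fun h => hQ fun a b => by
    have := Subgroup.commutator_mem_commutator (Subgroup.mem_top a) (Subgroup.mem_top b)
    rw [← commutator_def, h, Subgroup.mem_bot, commutatorElement_def, mul_inv_eq_one,
      mul_inv_eq_iff_eq_mul] at this
    exact this
  -- `N` reduces once it has small index
  have hNred : ∀ k : ℕ, N.index ≤ k → ¬ (k * ((n / 2)!) ^ 2 ≤ (n !) ^ 2) := by
    intro k hk hb
    refine hno ⟨N, n / 2, by omega, fun θ => ?_, (Nat.mul_le_mul_right _ hk).trans hb⟩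
    have := two_mul_le hd N hQ θ
    omega
  by_cases hcen : commutator (G ⧸ N) ≤ Subgroup.center (G ⧸ N)
  · obtain ⟨β, hβ2, hβn, hnorm, hvan, hindex⟩ := central_case hdQ hQ hmin hcen
    set H := (Subgroup.center (G ⧸ N)).comap (QuotientGroup.mk' N) with hH
    have hi : H.index ≤ n ^ 2 := by
      rw [hidx, hindex]; exact Nat.pow_le_pow_left hβn 2
    obtain ⟨θ, hθ⟩ := exists_top_char (by omega) hd hno H hi
    obtain ⟨χ, hres, hχ⟩ := exists_extension hd H θ hθ
    set f := charDegree (β : G ⧸ N → ℂ)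
    set ψ : G → ℂ := (χ : G → ℂ) * (Chars.inflate N β : G → ℂ)
    have hψ : classInner ψ ψ = 1 := by
      have h1 : ∀ g : G, ψ g * conj (ψ g) =
          ((if g ∈ H then ((f : ℝ) ^ 2 * ‖(χ : G → ℂ) g‖ ^ 2) else 0 : ℝ) : ℂ) := by
        intro g
        show ((χ : G → ℂ) g * (β : G ⧸ N → ℂ) g) * conj ((χ : G → ℂ) g * (β : G ⧸ N → ℂ) g) = _
        rw [Complex.mul_conj, Complex.normSq_eq_norm_sq, norm_mul]
        split_ifs with hg
        · rw [hnorm (g : G ⧸ N) hg, mul_pow, mul_comm ((f : ℝ) ^ 2)]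
        · rw [hvan (g : G ⧸ N) hg]; simp
      rw [classInner, Finset.sum_congr rfl fun g _ => h1 g, ← Complex.ofReal_sum,
        ← Finset.sum_filter, ← Finset.mul_sum,
        show ∑ g ∈ Finset.univ.filter (fun g => g ∈ H), ‖(χ : G → ℂ) g‖ ^ 2
            = ∑ g : H, ‖(χ : G → ℂ) g‖ ^ 2 from Finset.sum_subtype _ (by simp) _,
        Finset.sum_congr rfl fun (g : H) _ => by rw [congrFun hres g], sum_sq_norm,
        ← H.card_mul_index, hidx, hindex, inv_mul_eq_one₀]
      · push_cast; ring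
      · exact Nat.cast_ne_zero.mpr (Nat.mul_ne_zero Nat.card_pos.ne' (by positivity))
    have hirr := (Chars.isIrrCharacter_iff_classInner_eq_one (Chars.isCharacter_mul
      (Chars.irr_isCharacter χ) (Chars.irr_isCharacter _))).mpr hψ
    have h2 := hd ⟨_, hirr⟩
    have h3 : ψ 1 = ((n * f : ℕ) : ℂ) := by
      show (χ : G → ℂ) 1 * (β : G ⧸ N → ℂ) 1 = _
      rw [hχ, (Chars.charDegree_spec β).2, Nat.cast_mul]
    rw [Codegree.charDegree_eq h3] at h2
    nlinarith
  have hZ : Subgroup.center (G ⧸ N) = ⊥ := by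
    by_contra h
    exact hcen (hmin _ inferInstance h)
  by_cases hT : ∀ a ∈ commutator (G ⧸ N), ∀ b ∈ commutator (G ⧸ N), a * b = b * a
  · have hfree := frobenius_facts hmin hZ hT hTne
    have hf := index_le_of_frobenius hdQ hT hTne hfree
    set T := commutator (G ⧸ N) with hTdef
    have hf1 : T.index ≠ 1 := fun h => hQ fun a b =>
      hT a (Subgroup.index_eq_one.mp h ▸ Subgroup.mem_top a) b
        (Subgroup.index_eq_one.mp h ▸ Subgroup.mem_top b)
    obtain ⟨g₀, hg₀⟩ : ∃ g, g ∉ T := by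
      by_contra! h
      exact hf1 (Subgroup.index_eq_one.mpr ((Subgroup.eq_top_iff' _).mpr h))
    set K := T.comap (QuotientGroup.mk' N) with hK
    have hi : K.index ≤ n ^ 2 := by
      rw [hidx]; exact hf.trans (Nat.le_self_pow two_ne_zero n)
    obtain ⟨θ, hθ⟩ := exists_top_char (by omega) hd hno K hi
    have hsupp : ∀ k : K, (θ : K → ℂ) k ≠ 0 → (k : G) ∈ N := by
      intro k hk
      by_contra hkN
      obtain ⟨g, rfl⟩ := hmk g₀
      set c : T := ⟨(g : G ⧸ N) * (k : G) * (g : G ⧸ N)⁻¹ * ((k : G) : G ⧸ N)⁻¹,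
        conj_mul_inv_mem _ _⟩
      have hc : c ≠ 1 := fun h => hkN (by
        have h1 := congrArg Subtype.val h
        simp only [c, OneMemClass.coe_one, mul_inv_eq_one, mul_inv_eq_iff_eq_mul] at h1
        rw [one_mul] at h1
        exact (QuotientGroup.eq_one_iff _).mp (hfree _ hg₀ _ k.2 h1))
      obtain ⟨l, -, hl⟩ := Chars.exists_hom_separating T hT ⊥ c (by simpa using hc)
      let lam : K →* ℂˣ := l.comp
        { toFun := fun x => ⟨((x : G) : G ⧸ N), x.2⟩
          map_one' := rfl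
          map_mul' := fun _ _ => rfl }
      obtain ⟨χ, hχ, -⟩ := exists_extension hd K θ hθ
      obtain ⟨χ', hχ', -⟩ := exists_extension hd K ⟨_, Chars.isIrrCharacter_hom_mul lam θ.2⟩
        (by simp [hθ])
      have hgk : g * (k : G) * g⁻¹ ∈ K := Subgroup.Normal.conj_mem inferInstance _ k.2 g
      have e1 := congrFun hχ k
      have e2 := congrFun hχ ⟨_, hgk⟩
      have e3 := congrFun hχ' k
      have e4 := congrFun hχ' ⟨_, hgk⟩
      simp only [Chars.irr_isClassFunction χ (k : G) g] at e2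
      simp only [Chars.irr_isClassFunction χ' (k : G) g] at e4
      rw [e4, ← e2, e1] at e3
      have e5 := Units.ext (mul_right_cancel₀ hk e3)
      apply hl
      have e6 : c = (⟨((g * (k : G) * g⁻¹ : G) : G ⧸ N), hgk⟩ : T) * (⟨((k : G) : G ⧸ N), k.2⟩ : T)⁻¹ :=
        Subtype.ext (by simp [c])
      rw [e6, map_mul, map_inv, show l ⟨((g * (k : G) * g⁻¹ : G) : G ⧸ N), hgk⟩
        = l ⟨((k : G) : G ⧸ N), k.2⟩ from e5, mul_inv_cancel]
    have hNK : N ≤ K := fun x hx => by
      show (x : G ⧸ N) ∈ T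
      rw [(QuotientGroup.eq_one_iff x).mpr hx]
      exact one_mem T
    have hrel : N.relIndex K ≤ n ^ 2 :=
      card_le_of_support θ hθ (N.subgroupOf K) fun k hk => Subgroup.mem_subgroupOf.mpr (hsupp k hk)
    have hNidx : N.index = N.relIndex K * T.index := by
      rw [← hidx T, ← hK, Subgroup.relIndex_mul_index hNK]
    rcases (show n = 2 ∨ 3 ≤ n by omega) with rfl | hn3
    · have hT2 : T.index = 2 := le_antisymm hf (by
        have := T.index_ne_zero_of_finite
        omega)
      have hodd := odd_card_of_index_two hT hfree hT2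
      have hrc : N.relIndex K = Nat.card T := by
        have h1 : N.index = Nat.card T * T.index := by rw [T.card_mul_index]; rfl
        rw [hNidx] at h1
        exact Nat.eq_of_mul_eq_mul_right (by omega) h1
      have hres := CoprimeDegree.resFun_irreducible (N.subgroupOf K) θ (c := 2) hθ
        (by
          show Nat.Coprime 2 (N.relIndex K)
          rw [hrc]
          exact Nat.coprime_two_left.mpr hodd)
      let e := Subgroup.subgroupOfEquivOfLe hNK
      have h1 := two_mul_le hd N hQ (Chars.irrCongr e.symm ⟨_, hres⟩)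
      rw [Codegree.charDegree_eq (d := 2) (by
        show (θ : K → ℂ) ((e.symm 1 : N.subgroupOf K) : K) = _
        simpa using hθ)] at h1
      omega
    · refine hNred (n ^ 3) ?_ (budget_three hn3 le_rfl)
      rw [hNidx, pow_succ n 2]
      exact Nat.mul_le_mul hrel hf
  · have hn5 : 5 ≤ n := by
      by_contra h5
      exact hT (commutator_comm_of_degreesLT_five
        (fun χ => lt_of_lt_of_le (hdQ χ) (by omega)) hmin)
    have : Nontrivial (G ⧸ N) := by
      push Not at hQ
      obtain ⟨a, b, h⟩ := hQ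
      exact ⟨⟨_, _, h⟩⟩
    obtain ⟨x, hx1, hx⟩ := exists_small_class hdQ
    set C := Subgroup.centralizer ({x} : Set (G ⧸ N)) with hC
    set L := C.comap (QuotientGroup.mk' N) with hL
    have hi : L.index ≤ n ^ 2 := (hidx C).trans_le hx
    obtain ⟨θ, hθ⟩ := exists_top_char (by omega) hd hno L hi
    have hcore : C.normalCore = ⊥ := by
      by_contra h
      have hTC := (hmin _ C.normalCore_normal h).trans C.normalCore_le
      have hxT : x ∈ Subgroup.centralizer (commutator (G ⧸ N) : Set (G ⧸ N)) :=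
        Subgroup.mem_centralizer_iff.mpr fun t ht =>
          (Subgroup.mem_centralizer_iff.mp (hTC ht) x rfl).symm
      have hne : Subgroup.centralizer (commutator (G ⧸ N) : Set (G ⧸ N)) ≠ ⊥ := fun h => hx1 (by
        rwa [h, Subgroup.mem_bot] at hxT)
      exact hT fun a ha b hb =>
        (Subgroup.mem_centralizer_iff.mp (hmin _ inferInstance hne ha) b hb).symm
    have hsupp : ∀ k : L, (θ : L → ℂ) k ≠ 0 → (k : G) ∈ N := fun k hk => by
      have h1 := mem_normalCore hd L θ hθ k hk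
      have h2 : ((k : G) : G ⧸ N) ∈ C.normalCore := fun b => by
        induction b using QuotientGroup.induction_on with | _ b => ?_
        exact h1 b
      rw [hcore, Subgroup.mem_bot] at h2
      exact (QuotientGroup.eq_one_iff _).mp h2
    have hNL : N ≤ L := fun y hy => by
      show (y : G ⧸ N) ∈ C
      rw [(QuotientGroup.eq_one_iff y).mpr hy]
      exact one_mem C
    have hrel : N.relIndex L ≤ n ^ 2 :=
      card_le_of_support θ hθ (N.subgroupOf L) fun k hk => Subgroup.mem_subgroupOf.mpr (hsupp k hk)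
    refine hNred (n ^ 4) ?_ (budget_four hn5 le_rfl)
    rw [← Subgroup.relIndex_mul_index hNL, show n ^ 4 = n ^ 2 * n ^ 2 by ring]
    exact Nat.mul_le_mul hrel hi

/-- A group with all degrees at most `n` has a commutative subgroup of index at most `(n!)²`. -/
theorem exists_abelian (n : ℕ) : ∀ (G : Type u) [Group G] [Finite G],
    Chars.DegreesLT (n + 1) G →
      ∃ A : Subgroup G, (∀ x ∈ A, ∀ y ∈ A, x * y = y * x) ∧ A.index ≤ (n !) ^ 2 := by
  induction n using Nat.strong_induction_on with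
  | _ n ih =>
    intro G _ _ hd
    by_cases hG : ∀ a b : G, a * b = b * a
    · refine ⟨⊤, fun x _ y _ => hG x y, ?_⟩
      rw [Subgroup.index_top]
      exact Nat.one_le_pow _ _ (Nat.factorial_pos n)
    have hn : 2 ≤ n := by
      by_contra h
      exact hG (mul_comm_of_degreesLT_two fun χ => lt_of_lt_of_le (hd χ) (by omega))
    cases nonempty_fintype G
    obtain ⟨H, m, hm, hdH, hle⟩ := hasReduction hn hd hG
    obtain ⟨A, hA, hAi⟩ := ih m hm H hdH
    refine ⟨A.map H.subtype, ?_, ?_⟩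
    · rintro _ ⟨x, hx, rfl⟩ _ ⟨y, hy, rfl⟩
      rw [← map_mul, ← map_mul, hA x hx y hy]
    · rw [Subgroup.index_map_subtype]
      calc A.index * H.index ≤ (m !) ^ 2 * H.index := Nat.mul_le_mul_right _ hAi
        _ = H.index * (m !) ^ 2 := mul_comm _ _
        _ ≤ _ := hle

end Cfsg.Agent.Lib.MaxDegree
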